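import Mathlib

/-!
# Left Kan extension of ind-objects
-/

set_option autoImplicit false

universe u

namespace Groth.IndLan

open CategoryTheory CategoryTheory.Limits Opposite

variable {C : Type u} [SmallCategory C] {C' : Type u} [SmallCategory C'] (u' : C ⥤ C')

/-- The adjunction. -/
noncomputable abbrev adj :
    (u'.op.lan : (Cᵒᵖ ⥤ Type u) ⥤ (C'ᵒᵖ ⥤ Type u)) ⊣ (Functor.whiskeringLeft _ _ (Type u)).obj u'.op :=
  u'.op.lanAdjunction (Type u)

/-- The action of `u` on morphisms. -/
def act (b : C) : yoneda.obj b ⟶ u'.op ⋙ yoneda.obj (u'.obj b) where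
  app a := TypeCat.ofHom fun f => u'.map f
  naturality a a' g := by
    ext f
    exact u'.map_comp _ _

/-- Comparison with the representable. -/
noncomputable def desc (b : C) : u'.op.lan.obj (yoneda.obj b) ⟶ yoneda.obj (u'.obj b) :=
  ((adj u').homEquiv _ _).symm (act u' b)

theorem unit_desc (b : C) : (adj u').unit.app (yoneda.obj b) ≫ Functor.whiskerLeft u'.op (desc u' b) = act u' b := by
  have := ((adj u').homEquiv _ _).apply_symm_apply (act u' b)
  rw [Adjunction.homEquiv_unit] at this
  exact this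

theorem unit_desc_apply (b : C) (a : Cᵒᵖ) (f : (yoneda.obj b).obj a) :
    (desc u' b).app (u'.op.obj a) (((adj u').unit.app (yoneda.obj b)).app a f) = u'.map f :=
  ConcreteCategory.congr_hom (NatTrans.congr_app (unit_desc u' b) a) f

instance isIso_desc (b : C) : IsIso (desc u' b) := by
  let η := (adj u').unit.app (yoneda.obj b)
  let inv : yoneda.obj (u'.obj b) ⟶ u'.op.lan.obj (yoneda.obj b) :=
    yonedaEquiv.symm (η.app (op b) (𝟙 b))
  have h1 : inv ≫ desc u' b = 𝟙 _ := yonedaEquiv.injective (by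
    rw [yonedaEquiv_comp, Equiv.apply_symm_apply]
    exact (unit_desc_apply u' b (op b) (𝟙 b)).trans (u'.map_id b))
  refine ⟨inv, ((adj u').homEquiv _ _).injective ?_, h1⟩
  rw [Adjunction.homEquiv_unit, Adjunction.homEquiv_unit]
  apply yonedaEquiv.injective
  rw [yonedaEquiv_comp, yonedaEquiv_comp]
  show inv.app _ ((desc u' b).app _ (η.app (op b) (𝟙 b))) = η.app (op b) (𝟙 b)
  rw [show (desc u' b).app _ (η.app (op b) (𝟙 b)) = 𝟙 (u'.obj b) from
    (unit_desc_apply u' b (op b) (𝟙 b)).trans (u'.map_id b)]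
  exact yonedaEquiv.apply_symm_apply _

theorem unit_yoneda_injective [u'.Faithful] (b : C) (a : Cᵒᵖ) :
    Function.Injective (((adj u').unit.app (yoneda.obj b)).app a) := fun f g h =>
  u'.map_injective ((unit_desc_apply u' b a f).symm.trans
    ((congrArg ((desc u' b).app _) h).trans (unit_desc_apply u' b a g)))

theorem unit_yoneda_surjective [u'.Full] (b : C) (a : Cᵒᵖ) :
    Function.Surjective (((adj u').unit.app (yoneda.obj b)).app a) := fun z => by
  refine ⟨u'.preimage ((desc u' b).app _ z), ?_⟩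
  have : IsIso ((desc u' b).app (u'.op.obj a)) := inferInstance
  refine ((isIso_iff_bijective _).1 this).1 ?_
  rw [unit_desc_apply]
  exact u'.map_preimage ((desc u' b).app _ z)

variable {u'}

theorem map_unit {G : Cᵒᵖ ⥤ Type u} {b : C} (φ : yoneda.obj b ⟶ G) (a : Cᵒᵖ) (f : (yoneda.obj b).obj a) :
    (u'.op.lan.map φ).app (u'.op.obj a) (((adj u').unit.app (yoneda.obj b)).app a f) =
      ((adj u').unit.app G).app a (φ.app a f) :=
  (ConcreteCategory.congr_hom (NatTrans.congr_app ((adj u').unit.naturality φ) a) f).symm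

/-- The image of a presentation. -/
noncomputable def lanColimit {G : Cᵒᵖ ⥤ Type u} (P : IndObjectPresentation G) (a : Cᵒᵖ) :
    IsColimit (((evaluation C'ᵒᵖ (Type u)).obj (u'.op.obj a)).mapCocone
      ((u'.op.lan).mapCocone P.cocone)) :=
  haveI : PreservesColimitsOfSize.{u, u} (u'.op.lan : (Cᵒᵖ ⥤ Type u) ⥤ (C'ᵒᵖ ⥤ Type u)) :=
    (adj u').leftAdjoint_preservesColimits
  isColimitOfPreserves _ (isColimitOfPreserves _ P.coconeIsColimit)

theorem unit_injective [u'.Faithful] {G : Cᵒᵖ ⥤ Type u} (hG : IsIndObject G) (a : Cᵒᵖ) :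
    Function.Injective (((adj u').unit.app G).app a) := by
  let P := hG.presentation
  intro x y h
  obtain ⟨i, f, rfl⟩ := Types.jointly_surjective_of_isColimit
    (isColimitOfPreserves ((evaluation _ (Type u)).obj a) P.coconeIsColimit) x
  obtain ⟨j, g, rfl⟩ := Types.jointly_surjective_of_isColimit
    (isColimitOfPreserves ((evaluation _ (Type u)).obj a) P.coconeIsColimit) y
  obtain ⟨k, hi, hj, -⟩ := IsFilteredOrEmpty.cocone_objs i j
  have hf := ConcreteCategory.congr_hom (NatTrans.congr_app (P.cocone.w hi) a) f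
  have hg := ConcreteCategory.congr_hom (NatTrans.congr_app (P.cocone.w hj) a) g
  change (P.cocone.ι.app i).app a f = (P.cocone.ι.app j).app a g
  change ((adj u').unit.app G).app a ((P.cocone.ι.app i).app a f) =
    ((adj u').unit.app G).app a ((P.cocone.ι.app j).app a g) at h
  rw [← hf, ← hg] at h ⊢
  have h' : (u'.op.lan.map (P.cocone.ι.app k)).app (u'.op.obj a) (((adj u').unit.app _).app a _) =
      (u'.op.lan.map (P.cocone.ι.app k)).app (u'.op.obj a) (((adj u').unit.app _).app a _) :=
    (map_unit (P.cocone.ι.app k) a _).trans (h.trans (map_unit (P.cocone.ι.app k) a _).symm)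
  obtain ⟨l, e, he⟩ := (Types.FilteredColimit.isColimit_eq_iff' (lanColimit P a) _ _).1 h'
  have he' := unit_yoneda_injective u' _ a ((map_unit ((P.F ⋙ yoneda).map e) a _).symm.trans
    (he.trans (map_unit ((P.F ⋙ yoneda).map e) a _)))
  have key : ∀ z : ((P.F ⋙ yoneda).obj k).obj a,
      (P.cocone.ι.app l).app a (((P.F ⋙ yoneda).map e).app a z) = (P.cocone.ι.app k).app a z :=
    fun z => ConcreteCategory.congr_hom (NatTrans.congr_app (P.cocone.w e) a) z
  exact (key _).symm.trans ((congrArg _ he').trans (key _))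

theorem unit_surjective [u'.Full] {G : Cᵒᵖ ⥤ Type u} (hG : IsIndObject G) (a : Cᵒᵖ) :
    Function.Surjective (((adj u').unit.app G).app a) := by
  let P := hG.presentation
  intro z
  obtain ⟨i, w, rfl⟩ := Types.jointly_surjective_of_isColimit (lanColimit P a) z
  obtain ⟨f, rfl⟩ := unit_yoneda_surjective u' _ a w
  exact ⟨(P.cocone.ι.app i).app a f, (map_unit (P.cocone.ι.app i) a f).symm⟩

theorem map_eq {F G : Cᵒᵖ ⥤ Type u} (φ : F ⟶ G) :
    u'.op.lan.map φ = ((adj u').homEquiv _ _).symm (φ ≫ (adj u').unit.app G) := by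
  rw [Equiv.eq_symm_apply, Adjunction.homEquiv_unit]
  exact ((adj u').unit.naturality φ).symm

theorem faithful_iff : u'.Faithful ↔ ∀ (F G : Cᵒᵖ ⥤ Type u), IsIndObject F → IsIndObject G →
    Function.Injective (fun φ : F ⟶ G => (u'.op.lan : (Cᵒᵖ ⥤ Type u) ⥤ (C'ᵒᵖ ⥤ Type u)).map φ) := by
  refine ⟨fun _ F G _ hG φ ψ h => ?_, fun h => ⟨fun {a b} f g e => ?_⟩⟩
  · simp only [map_eq] at h
    have h' := ((adj u').homEquiv _ _).symm.injective h
    ext c x
    exact unit_injective hG c (ConcreteCategory.congr_hom (NatTrans.congr_app h' c) x)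
  · apply yoneda.map_injective
    refine h _ _ (isIndObject_yoneda a) (isIndObject_yoneda b) ?_
    simp only [map_eq]
    congr 1
    apply yonedaEquiv.injective
    rw [yonedaEquiv_comp, yonedaEquiv_comp]
    have : IsIso ((desc u' b).app (u'.op.obj (op a))) := inferInstance
    refine ((isIso_iff_bijective _).1 this).1 ?_
    refine (unit_desc_apply u' b (op a) _).trans ((Eq.trans ?_ (unit_desc_apply u' b (op a) _).symm))
    exact (congrArg u'.map (Category.id_comp f)).trans (e.trans (congrArg u'.map (Category.id_comp g)).symm)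

theorem ff_iff : (u'.Full ∧ u'.Faithful) ↔ ∀ (F G : Cᵒᵖ ⥤ Type u), IsIndObject F → IsIndObject G →
    Function.Bijective (fun φ : F ⟶ G => (u'.op.lan : (Cᵒᵖ ⥤ Type u) ⥤ (C'ᵒᵖ ⥤ Type u)).map φ) := by
  constructor
  · rintro ⟨_, _⟩ F G hF hG
    refine ⟨faithful_iff.1 inferInstance F G hF hG, fun ψ => ?_⟩
    haveI : ∀ c, IsIso (((adj u').unit.app G).app c) := fun c =>
      (isIso_iff_bijective _).2 ⟨unit_injective hG c, unit_surjective hG c⟩
    haveI : IsIso ((adj u').unit.app G) := NatIso.isIso_of_isIso_app _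
    refine ⟨(adj u').homEquiv _ _ ψ ≫ inv ((adj u').unit.app G), ?_⟩
    dsimp only
    rw [map_eq, Category.assoc, IsIso.inv_hom_id, Category.comp_id, Equiv.symm_apply_apply]
  · intro h
    haveI : u'.Faithful := faithful_iff.2 fun F G hF hG => (h F G hF hG).1
    refine ⟨⟨fun {a b} g => ?_⟩, inferInstance⟩
    obtain ⟨φ, hφ⟩ := (h _ _ (isIndObject_yoneda a) (isIndObject_yoneda b)).2
      (desc u' a ≫ yoneda.map g ≫ inv (desc u' b))
    refine ⟨yoneda.preimage φ, ?_⟩
    dsimp only at hφ
    have h0 : u'.map (yonedaEquiv φ) = (u'.op.lan.map φ ≫ desc u' b).app (op (u'.obj a))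
        (((adj u').unit.app (yoneda.obj a)).app (op a) (𝟙 a)) :=
      (unit_desc_apply u' b (op a) _).symm.trans
        (congrArg ((desc u' b).app _) (map_unit φ (op a) (𝟙 a)).symm)
    rw [hφ] at h0
    simp only [Category.assoc, IsIso.inv_hom_id, Category.comp_id] at h0
    change _ = (yoneda.map g).app _ ((desc u' a).app _ _) at h0
    rw [show (desc u' a).app (op (u'.obj a)) (((adj u').unit.app (yoneda.obj a)).app (op a) (𝟙 a)) = 𝟙 (u'.obj a)
      from (unit_desc_apply u' a (op a) (𝟙 a)).trans (u'.map_id a)] at h0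
    refine (congrArg u'.map ?_).trans (h0.trans (Category.id_comp g))
    apply yoneda.map_injective
    rw [yoneda.map_preimage]
    exact (yonedaEquiv.symm_apply_apply φ).symm.trans (by ext; simp [yonedaEquiv])

end Groth.IndLan
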